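import Cfsg.Agent.H2.RelGraph.Main

/-!
# At most two components
-/

namespace Cfsg.Agent.H2.RelGraph

open Cfsg.Agent Cfsg.Agent.CharInduce Finset MulAction

universe u

-- use the group structure of linear characters throughout, for uniform rewriting
attribute [-instance] MonoidHom.instPow MonoidHom.mul MonoidHom.instDiv MonoidHom.instInv
  instOneMonoidHom

variable {G : Type u} [Group G]

attribute [local instance] linAction

variable (N : Subgroup G) [N.Normal] [Finite G]

theorem exists_pow_prime_eq_one {s : ℕ} [Fact s.Prime] (hs : s ∣ ⁅N, N⁆.relIndex N) :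
    ∃ l : N →* ℂˣ, l ≠ 1 ∧ l ^ s = 1 := by
  have h0 : ⁅N, N⁆.subgroupOf N = commutator N := by
    rw [Subgroup.subgroupOf, ← Subgroup.map_subtype_commutator,
      Subgroup.comap_map_eq_self_of_injective N.subtype_injective]
  rw [show ⁅N, N⁆.relIndex N = Nat.card (Abelianization N) from
    congrArg Subgroup.index h0] at hs
  rw [← CommGroup.card_monoidHom_of_hasEnoughRootsOfUnity (Abelianization N) ℂ] at hs
  obtain ⟨f, hf⟩ := exists_prime_orderOf_dvd_card' s hs
  refine ⟨f.comp Abelianization.of, fun e => ?_, ?_⟩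
  · have h1 : f = 1 := Abelianization.hom_ext _ _ (e.trans (MonoidHom.ext fun _ => rfl))
    rw [orderOf_eq_one_iff.2 h1] at hf
    exact (Fact.out : s.Prime).one_lt.ne hf
  · refine MonoidHom.ext fun n => ?_
    have h := DFunLike.congr_fun (hf ▸ pow_orderOf_eq_one f) (Abelianization.of n)
    exact h

theorem isS_of_pow_prime {s : ℕ} [Fact s.Prime] (hs : s ∣ ⁅N, N⁆.relIndex N) {l : N →* ℂˣ}
    (h : l ^ s = 1) : IsS N s l := by
  have h1 : s ∣ Nat.card G :=
    (hs.trans (Subgroup.relIndex_dvd_card _ _)).trans N.card_subgroup_dvd_card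
  have h2 : s ∣ sPow G s := dvd_pow_self s
    ((Fact.out : s.Prime).factorization_pos_of_dvd Nat.card_pos.ne' h1).ne'
  obtain ⟨d, hd⟩ := h2
  show l ^ sPow G s = 1
  rw [hd, pow_mul, h]
  exact one_pow (M := N →* ℂˣ) d

theorem exists_good [Fintype G] [Fintype N] {s : ℕ} [Fact s.Prime]
    (hs : s ∣ ⁅N, N⁆.relIndex N) : ∃ l, Good N s l := by
  classical
  haveI : Finite (N →* ℂˣ) := Nat.finite_of_card_ne_zero (by
    have e : (N →* ℂˣ) ≃ (Abelianization N →* ℂˣ) := Abelianization.lift
    rw [Nat.card_congr e, CommGroup.card_monoidHom_of_hasEnoughRootsOfUnity]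
    exact Nat.card_pos.ne')
  let K : Subgroup (N →* ℂˣ) := (powMonoidHom s).ker
  let X : SubMulAction G (N →* ℂˣ) :=
    { carrier := K
      smul_mem' := fun g l hl => by
        show (g • l) ^ s = 1
        rw [← smul_pow', show l ^ s = 1 from hl, smul_one] }
  obtain ⟨l₀, hl₀, hl₀s⟩ := exists_pow_prime_eq_one N hs
  obtain ⟨P⟩ : Nonempty (Sylow s G) := inferInstance
  have hcard : s ∣ Nat.card X := by
    have h1 : orderOf (⟨l₀, hl₀s⟩ : K) = s := by
      rw [← Subgroup.orderOf_coe]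
      exact orderOf_eq_prime hl₀s hl₀
    calc s = orderOf (⟨l₀, hl₀s⟩ : K) := h1.symm
      _ ∣ Nat.card K := orderOf_dvd_natCard _
  have h2 := P.2.card_modEq_card_fixedPoints X
  have h3 : s ∣ Nat.card (fixedPoints P X) := (h2.dvd_iff dvd_rfl).1 hcard
  have h1mem : (⟨1, K.one_mem⟩ : X) ∈ fixedPoints P X := fun g =>
    Subtype.ext (smul_one (g : G) : (g : G) • (1 : N →* ℂˣ) = 1)
  have : Nonempty (fixedPoints P X) := ⟨⟨_, h1mem⟩⟩
  have h4 : 1 < Nat.card (fixedPoints P X) :=
    lt_of_lt_of_le (Fact.out : s.Prime).one_lt (Nat.le_of_dvd Nat.card_pos h3)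
  obtain ⟨⟨⟨l, hl⟩, hfix⟩, hne⟩ :=
    @exists_ne _ (Finite.one_lt_card_iff_nontrivial.1 h4) ⟨_, h1mem⟩
  refine ⟨l, isS_of_pow_prime N hs hl, fun e => hne (Subtype.ext (Subtype.ext e)), fun hdiv => ?_⟩
  refine P.not_dvd_index (hdiv.trans (Subgroup.index_dvd_of_le fun g hg => ?_))
  exact mem_stabilizer_iff.2 (congrArg Subtype.val (hfix ⟨g, hg⟩))

variable [Fintype G] [Fintype N]

/-- The orbit of a linear character. -/
noncomputable def lorbit (l : N →* ℂˣ) : Finset (N →* ℂˣ) :=
  (Set.finite_range fun g : G => g • l).toFinset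

theorem mem_lorbit {l y : N →* ℂˣ} : y ∈ lorbit N l ↔ ∃ g : G, g • l = y := by
  simp [lorbit]

theorem card_lorbit (l : N →* ℂˣ) : (lorbit N l).card = (stabilizer G l).index := by
  rw [index_stabilizer, Set.ncard_eq_toFinset_card (orbit G l) (Set.finite_range _)]
  exact congrArg Finset.card (Finset.ext fun y => by simp [lorbit, orbit])

/-- The determinant of a character over a linear character, restricted to `N`. -/
theorem lorbit_prod (hNG : N ≤ commutator G) {l : N →* ℂˣ} {χ : IrrCharacter G}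
    (h : Over N χ (linIrr N l)) :
    ∃ e : ℕ, e ∣ charDegree (χ : G → ℂ) ∧ (∏ y ∈ lorbit N l, y) ^ e = 1 := by
  classical
  obtain ⟨e, he⟩ := CharBasic.classInner_isChar_nat
    (CharInduce.IsChar.res (CharBasic.IsIrr.isCharacter χ.2) N)
    (CharBasic.IsIrr.isCharacter (linIrr N l).2)
  have hcl := clifford N χ.2 (linIrr N l).2 h
  have himg : univ.image (conjFun N ((linIrr N l : IrrCharacter N) : N → ℂ)) =
      (lorbit N l).image (linFun N) := by
    refine Finset.ext fun ψ => ?_
    simp only [mem_image, mem_univ, true_and, mem_lorbit]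
    constructor
    · rintro ⟨x, rfl⟩
      exact ⟨x⁻¹ • l, ⟨x⁻¹, rfl⟩, by rw [linFun_smul, inv_inv]; rfl⟩
    · rintro ⟨_, ⟨g, rfl⟩, rfl⟩
      exact ⟨g⁻¹, (linFun_smul N g l).symm⟩
  rw [he, himg, sum_image (linFun_injective N).injOn, Nat.cast_smul_eq_nsmul] at hcl
  refine ⟨e, ?_, ?_⟩
  · have hd := clifford_degree N χ.2 (linIrr N l).2 h
    rw [he, show ((linIrr N l : IrrCharacter N) : N → ℂ) 1 = 1 by simp [linIrr, linFun],
      mul_one] at hd
    refine ⟨(inertia N ((linIrr N l : IrrCharacter N) : N → ℂ)).index, ?_⟩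
    rw [charDegree, hd, ← Nat.cast_mul, Complex.natCast_re, Nat.floor_natCast]
  · obtain ⟨L, hL⟩ := exists_detChar_eq_hom (CharBasic.IsIrr.isCharacter χ.2)
    refine linFun_injective N (funext fun n => ?_)
    have h4 : detChar (χ : G → ℂ) (n : G) = detChar (fun k : N => (χ : G → ℂ) k) n :=
      detChar_res N (CharBasic.IsIrr.isCharacter χ.2) (fun _ => rfl) n
    have h1 : (L n : ℂ) = 1 := by
      rw [Abelianization.commutator_subset_ker L (hNG n.2)]; simp
    have hch : ∀ y ∈ lorbit N l, IsCharacter N (linFun N y) := fun y _ => isCharacter_hom y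
    rw [hL] at h4
    simp only [h1] at h4
    rw [hcl, detChar_nsmul (CharBasic.IsChar.sum _ _ hch), Pi.pow_apply,
      detChar_sum _ _ hch, Finset.prod_apply] at h4
    have h5 : ∀ y ∈ lorbit N l, detChar (linFun N y) n = linFun N y n := fun y _ =>
      congrFun (detChar_hom y) n
    rw [prod_congr rfl h5] at h4
    simp only [linFun, MonoidHom.pow_apply, MonoidHom.finsetProd_apply, Units.val_pow_eq_pow_val,
      Units.coe_prod]
    exact h4.symm

/-- Above an invariant twist of a moved linear character some degree is divisible by `s`. -/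
theorem invariant_twist (hNG : N ≤ commutator G) {s : ℕ} [Fact s.Prime] {μ l : N →* ℂˣ}
    (hμ : IsS N s μ) (hl : IsS N s l) (hl1 : l ≠ 1) (hinv : ∀ g : G, g • l = l)
    {χ χ' : IrrCharacter G} (hχ : Over N χ (linIrr N μ)) (hχ' : Over N χ' (linIrr N (μ * l)))
    (hc : ¬ s ∣ charDegree (χ : G → ℂ)) (hc' : ¬ s ∣ charDegree (χ' : G → ℂ)) : False := by
  classical
  obtain ⟨e, he, hP⟩ := lorbit_prod N hNG hχ
  obtain ⟨e', he', hP'⟩ := lorbit_prod N hNG hχ'
  have him : lorbit N (μ * l) = (lorbit N μ).image (· * l) := by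
    refine Finset.ext fun y => ?_
    simp only [mem_image, mem_lorbit, smul_mul', hinv]
    constructor
    · rintro ⟨g, rfl⟩; exact ⟨g • μ, ⟨g, rfl⟩, rfl⟩
    · rintro ⟨_, ⟨g, rfl⟩, rfl⟩; exact ⟨g, rfl⟩
  rw [him, prod_image (mul_left_injective l).injOn, prod_mul_distrib, prod_const, card_lorbit]
    at hP'
  have hPs : IsS N s (∏ y ∈ lorbit N μ, y) := by
    show (∏ y ∈ lorbit N μ, y) ^ sPow G s = 1
    rw [← prod_pow]
    refine prod_eq_one fun y hy => ?_
    obtain ⟨g, rfl⟩ := (mem_lorbit N).1 hy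
    exact IsS.smul N hμ g
  have h1 := eq_one_of_coprime N (coprime_sPow Fact.out fun h => hc (h.trans he)) hPs hP
  rw [h1, one_mul (M := N →* ℂˣ), ← pow_mul] at hP'
  refine hl1 (eq_one_of_coprime N (coprime_sPow Fact.out fun h => ?_) hl hP')
  rcases (Fact.out : s.Prime).dvd_mul.1 h with h2 | h2
  · exact hc (h2.trans (index_dvd_of_degOver N hNG ⟨χ, hχ, rfl⟩))
  · exact hc' (h2.trans he')

theorem conn_hub (hNG : N ≤ commutator G) {s : ℕ} [Fact s.Prime]
    (hs : s ∣ ⁅N, N⁆.relIndex N) (hNI : NoInv N s) {l : N →* ℂˣ} (hl : Good N s l)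
    {c : ℕ} (hc : DegOver N l c) {x : ℕ} (hx : x ∈ relCharDegrees N) (hsx : ¬ s ∣ x) :
    Conn N x c := by
  obtain ⟨χ, θ, hov, hθ, rfl⟩ := exists_of_mem N hx
  by_cases hD : det N θ ^ coPow G s = 1
  · obtain ⟨d, hd, hud, -⟩ := twist_step N hNG Fact.out hov hθ hsx hD hl.1 hl.2.1
    obtain ⟨-, hdD, -⟩ := id hd
    exact hd.trans N (conn_of_dvd N hdD (degOver_mem N hl.2.1 hc) (mem_ne_zero N hdD)
      (hNI l hl.1 hl.2.1) hud (index_dvd_of_degOver N hNG hc))
  · obtain ⟨hu1, hux⟩ := det_part N hNG Fact.out hov hsx hD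
    obtain ⟨d, hd⟩ := exists_degOver N (det N θ ^ coPow G s)
    exact (conn_of_dvd N hx (degOver_mem N hD hd) (mem_ne_zero N hx) hu1 hux
      (index_dvd_of_degOver N hNG hd)).trans N
      (good_conn N hNG hNI ⟨isS_pow_coPow N s _, hD, fun h => hsx (h.trans hux)⟩ hl hd hc)

/-- The dichotomy at one prime divisor of the index of the derived subgroup. -/
theorem conn_prime (hNG : N ≤ commutator G) {s : ℕ} [Fact s.Prime]
    (hs : s ∣ ⁅N, N⁆.relIndex N) {a b : ℕ} (ha : a ∈ relCharDegrees N)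
    (hb : b ∈ relCharDegrees N) :
    ((s ∣ a ↔ s ∣ b) → Conn N a b) ∧ (¬ NoInv N s → Conn N a b) := by
  have hdiv : ∀ {x y : ℕ}, x ∈ relCharDegrees N → y ∈ relCharDegrees N → s ∣ x → s ∣ y →
      Conn N x y :=
    fun hx hy h h' => conn_of_dvd N hx hy (mem_ne_zero N hx) (Fact.out : s.Prime).ne_one h h'
  by_cases hNI : NoInv N s
  · refine ⟨fun h => ?_, fun h => absurd hNI h⟩
    obtain ⟨l, hl⟩ := exists_good N hs
    obtain ⟨c, hc⟩ := exists_degOver N l
    have key : ∀ {x : ℕ}, x ∈ relCharDegrees N → ¬ s ∣ x → Conn N x c := fun hx hsx =>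
      conn_hub N hNG hs hNI hl hc hx hsx
    by_cases hsa : s ∣ a
    · exact hdiv ha hb hsa (h.1 hsa)
    · exact (key ha hsa).trans N ((key hb (fun h' => hsa (h.2 h'))).symm N)
  · have hall : Conn N a b := by
      simp only [NoInv, not_forall] at hNI
      obtain ⟨l, hl, hl1, hu⟩ := hNI
      push Not at hu
      have key : ∀ {x : ℕ}, x ∈ relCharDegrees N → ∃ y, s ∣ y ∧ Conn N x y := by
        intro x hx
        by_cases hsx : s ∣ x
        · exact ⟨x, hsx, hx, hx, SimpleGraph.Reachable.refl _⟩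
        obtain ⟨χ, θ, hov, hθ, rfl⟩ := exists_of_mem N hx
        by_cases hD : det N θ ^ coPow G s = 1
        · obtain ⟨d, hd, -, hsd⟩ := twist_step N hNG Fact.out hov hθ hsx hD hl hl1
          exact ⟨d, hsd hu, hd⟩
        · obtain ⟨hu1, hux⟩ := det_part N hNG Fact.out hov hsx hD
          obtain ⟨d, hd⟩ := exists_degOver N (det N θ ^ coPow G s)
          have hdD := degOver_mem N hD hd
          have h1 := conn_of_dvd N hx hdD (mem_ne_zero N hx) hu1 hux
            (index_dvd_of_degOver N hNG hd)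
          by_cases hsd : s ∣ d
          · exact ⟨d, hsd, h1⟩
          obtain ⟨χ', hχ', rfl⟩ := id hd
          -- multiply the moved part by the invariant element
          set μ := det N θ ^ coPow G s
          have hμ : IsS N s (μ * l) := (isS_pow_coPow N s _).mul N hl
          have hst : stabilizer G (μ * l) = stabilizer G μ := by
            ext g
            have hgl : g • l = l :=
              mem_stabilizer_iff.1 (Subgroup.index_eq_one.1 hu ▸ Subgroup.mem_top g)
            rw [mem_stabilizer_iff, mem_stabilizer_iff, smul_mul', hgl]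
            exact ⟨fun h => mul_right_cancel h, fun h => by rw [h]⟩
          have hne : μ * l ≠ 1 := fun e => hu1 (by
            have h9 := hst
            rw [e] at h9
            have htop : stabilizer G (1 : N →* ℂˣ) = ⊤ := eq_top_iff.2 fun g _ => smul_one g
            rw [← h9, htop, Subgroup.index_top])
          obtain ⟨e, he⟩ := exists_degOver N (μ * l)
          have heD := degOver_mem N hne he
          refine ⟨e, ?_, h1.trans N (conn_of_dvd N hdD heD (mem_ne_zero N hdD) hu1
            (index_dvd_of_degOver N hNG hd) (hst ▸ index_dvd_of_degOver N hNG he))⟩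
          -- the degree over `μ * l` is divisible by `s`
          obtain ⟨χ'', hχ'', rfl⟩ := id he
          by_contra hc
          exact invariant_twist N hNG (isS_pow_coPow N s _) hl hl1 (fun g =>
            mem_stabilizer_iff.1 (Subgroup.index_eq_one.1 hu ▸ Subgroup.mem_top g))
            hχ' hχ'' hsd hc
      obtain ⟨y, hy, hay⟩ := key ha
      obtain ⟨z, hz, hbz⟩ := key hb
      exact hay.trans N ((hdiv hay.2.1 hbz.2.1 hy hz).trans N (hbz.symm N))
    exact ⟨fun _ => hall, fun _ => hall⟩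

/-- The product of hubs at two primes connects the two sides. -/
theorem conn_two_primes (hNG : N ≤ commutator G) {s t : ℕ} [Fact s.Prime] [Fact t.Prime]
    (hs : s ∣ ⁅N, N⁆.relIndex N) (ht : t ∣ ⁅N, N⁆.relIndex N) (hNs : NoInv N s)
    (hNt : NoInv N t) (hst : s ≠ t) {a b : ℕ} (ha : a ∈ relCharDegrees N)
    (hb : b ∈ relCharDegrees N) (hta : ¬ t ∣ a) (hsb : ¬ s ∣ b) : Conn N a b := by
  obtain ⟨l, hl⟩ := exists_good N hs
  obtain ⟨μ, hμ⟩ := exists_good N ht
  obtain ⟨c, hc⟩ := exists_degOver N l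
  obtain ⟨d, hd⟩ := exists_degOver N μ
  have hcop : Nat.Coprime (sPow G s) (sPow G t) :=
    ((Nat.coprime_primes Fact.out Fact.out).2 hst).pow _ _
  have h1 : stabilizer G (l * μ) ≤ stabilizer G l := fun g hg => by
    refine stabilizer_pow_le N hcop.symm hl.1 ?_
    rw [mem_stabilizer_iff] at hg ⊢
    have e : (l * μ) ^ sPow G t = l ^ sPow G t := by
      rw [mul_pow, hμ.1]; exact mul_one (M := N →* ℂˣ) _
    rw [← e, smul_pow', hg]
  have h2 : stabilizer G (l * μ) ≤ stabilizer G μ := fun g hg => by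
    refine stabilizer_pow_le N hcop hμ.1 ?_
    rw [mem_stabilizer_iff] at hg ⊢
    have e : (l * μ) ^ sPow G s = μ ^ sPow G s := by
      rw [mul_pow, hl.1]; exact one_mul (M := N →* ℂˣ) _
    rw [← e, smul_pow', hg]
  have hne : l * μ ≠ 1 := fun e => by
    refine hNs l hl.1 hl.2.1 ?_
    rw [Subgroup.index_eq_one, eq_top_iff]
    exact le_trans (fun g _ => by rw [mem_stabilizer_iff, e, smul_one]) h1
  obtain ⟨f, hf⟩ := exists_degOver N (l * μ)
  have hfD := degOver_mem N hne hf
  have hfl : Conn N c f := conn_of_dvd N (degOver_mem N hl.2.1 hc) hfD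
    (mem_ne_zero N (degOver_mem N hl.2.1 hc)) (hNs l hl.1 hl.2.1)
    (index_dvd_of_degOver N hNG hc)
    ((Subgroup.index_dvd_of_le h1).trans (index_dvd_of_degOver N hNG hf))
  have hfm : Conn N d f := conn_of_dvd N (degOver_mem N hμ.2.1 hd) hfD
    (mem_ne_zero N (degOver_mem N hμ.2.1 hd)) (hNt μ hμ.1 hμ.2.1)
    (index_dvd_of_degOver N hNG hd)
    ((Subgroup.index_dvd_of_le h2).trans (index_dvd_of_degOver N hNG hf))
  exact (conn_hub N hNG ht hNt hμ hd ha hta).trans N
    ((hfm.trans N (hfl.symm N)).trans N ((conn_hub N hNG hs hNs hl hc hb hsb).symm N))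

end Cfsg.Agent.H2.RelGraph
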