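import Cfsg.Agent.CharInduce.Det
import Cfsg.Agent.CharInduce.Gallagher
import Cfsg.Prelude.Def_Blocks

/-!
# Conjugation on linear characters of a normal subgroup and determinants of constituents
-/

namespace Cfsg.Agent.H2.RelGraph

open scoped ComplexConjugate
open Cfsg.Agent Cfsg.Agent.CharInduce Finset

universe u

-- use the group structure of linear characters throughout, for uniform rewriting
attribute [-instance] MonoidHom.instPow MonoidHom.mul MonoidHom.instDiv MonoidHom.instInv
  instOneMonoidHom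

variable {G : Type u} [Group G]

/-- Conjugation as an action of `G` on the linear characters of `N`. -/
@[reducible] def linAction (N : Subgroup G) [N.Normal] : MulDistribMulAction G (N →* ℂˣ) where
  smul g l := l.comp (MulAut.conjNormal g⁻¹).toMonoidHom
  one_smul l := MonoidHom.ext fun n => congrArg l (Subtype.ext (by simp))
  mul_smul g h l := MonoidHom.ext fun n => congrArg l (Subtype.ext (by simp [mul_assoc]))
  smul_mul _ _ _ := rfl
  smul_one _ := rfl

attribute [local instance] linAction

variable (N : Subgroup G) [N.Normal]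

/-- A linear character as a complex valued function. -/
def linFun (l : N →* ℂˣ) : N → ℂ := fun n => (l n : ℂ)

theorem linFun_injective : Function.Injective (linFun N) := fun _ _ h =>
  MonoidHom.ext fun n => Units.ext (congrFun h n)

theorem smul_lin_apply (g : G) (l : N →* ℂˣ) (n : N) :
    (g • l) n = l ((MulAut.conjNormal g⁻¹) n) := rfl

theorem linFun_smul (g : G) (l : N →* ℂˣ) : linFun N (g • l) = conjFun N (linFun N l) g⁻¹ := by
  funext n
  simp only [linFun, conjFun, smul_lin_apply]
  exact congrArg (fun m => (l m : ℂ)) (Subtype.ext (by simp))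

theorem detChar_comp {A B : Type u} [Group A] [Group B] [Finite A] [Finite B] (f : A →* B)
    {χ : B → ℂ} (h : IsCharacter B χ) :
    detChar (fun a => χ (f a)) = fun a => detChar χ (f a) := by
  obtain ⟨n, ρ, rfl⟩ := h
  rw [detChar_eq ρ rfl,
    detChar_eq (G := A) (MonoidHom.comp ρ f : Representation ℂ A _) (χ := fun a => ρ.character (f a)) rfl]
  rfl

theorem detChar_add {A : Type u} [Group A] [Finite A] {χ ψ : A → ℂ} (h₁ : IsCharacter A χ)
    (h₂ : IsCharacter A ψ) : detChar (χ + ψ) = detChar χ * detChar ψ := by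
  obtain ⟨m, ρ, rfl⟩ := h₁
  obtain ⟨n, σ, rfl⟩ := h₂
  have h : (ρ.prod σ).character = ρ.character + σ.character :=
    funext fun g => LinearMap.trace_prodMap' (ρ g) (σ g)
  rw [detChar_eq _ h, detChar_eq ρ rfl, detChar_eq σ rfl]
  funext g
  simp only [Pi.mul_apply, coe_detHom]
  exact LinearMap.det_prodMap (ρ g) (σ g)

theorem detChar_zero {A : Type u} [Group A] [Finite A] : detChar (0 : A → ℂ) = 1 := by
  have h := detChar_add (A := A) CharBasic.IsChar.zero CharBasic.IsChar.zero
  rw [add_zero] at h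
  obtain ⟨D, hD⟩ := exists_detChar_eq_hom (G := A) CharBasic.IsChar.zero
  rw [hD] at h ⊢
  funext a
  have h2 := congrFun h a
  simp only [Pi.mul_apply] at h2
  exact (mul_eq_left₀ (Units.ne_zero (D a))).1 h2.symm

theorem detChar_sum {A : Type u} [Group A] [Finite A] {ι : Type*} (s : Finset ι) (f : ι → A → ℂ)
    (h : ∀ i ∈ s, IsCharacter A (f i)) :
    detChar (∑ i ∈ s, f i) = ∏ i ∈ s, detChar (f i) := by
  classical
  induction s using Finset.induction_on with
  | empty => simpa using detChar_zero
  | insert a t ha ih =>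
    have h2 : ∀ i ∈ t, IsCharacter A (f i) := fun i hi => h i (mem_insert_of_mem hi)
    rw [sum_insert ha, prod_insert ha, ← ih h2,
      detChar_add (h a (mem_insert_self a t)) (CharBasic.IsChar.sum t f h2)]

theorem detChar_nsmul {A : Type u} [Group A] [Finite A] {χ : A → ℂ} (h : IsCharacter A χ) (k : ℕ) :
    detChar (k • χ) = detChar χ ^ k := by
  simpa using detChar_sum (range k) (fun _ => χ) fun _ _ => h

variable [Finite G]

/-- The determinant of an irreducible character of `N`. -/
noncomputable def det (θ : IrrCharacter N) : N →* ℂˣ :=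
  (exists_detChar_eq_hom (CharBasic.IsIrr.isCharacter θ.2)).choose

theorem det_spec (θ : IrrCharacter N) : detChar (θ : N → ℂ) = linFun N (det N θ) :=
  (exists_detChar_eq_hom (CharBasic.IsIrr.isCharacter θ.2)).choose_spec

theorem detChar_conjFun (θ : IrrCharacter N) (x : G) :
    detChar (conjFun N (θ : N → ℂ) x) = conjFun N (linFun N (det N θ)) x := by
  rw [conjFun_eq_comp, detChar_comp _ (CharBasic.IsIrr.isCharacter θ.2), det_spec, conjFun_eq_comp]

theorem smul_det_of_mem [Fintype G] {θ : IrrCharacter N} {x : G}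
    (hx : x ∈ inertia N (θ : N → ℂ)) : x • det N θ = det N θ := by
  refine linFun_injective N ?_
  rw [linFun_smul, ← detChar_conjFun,
    (mem_inertia N).1 ((inertia N (θ : N → ℂ)).inv_mem hx), det_spec]

theorem inertia_le_stabilizer_det [Fintype G] (θ : IrrCharacter N) :
    inertia N (θ : N → ℂ) ≤ MulAction.stabilizer G (det N θ) :=
  fun _ hx => MulAction.mem_stabilizer_iff.2 (smul_det_of_mem N hx)

/-- Multiplication of a character by a linear character. -/
theorem isIrr_mul_lin (θ : IrrCharacter N) (l : N →* ℂˣ) :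
    IsIrrCharacter N (fun n => (l n : ℂ) * (θ : N → ℂ) n) := by
  have := Fintype.ofFinite N
  refine isIrr_of_norm_one (CharInduce.IsChar.mul (isCharacter_hom l)
    (CharBasic.IsIrr.isCharacter θ.2)) ?_
  rw [← CharBasic.classInner_irr_self θ.2, CharBasic.classInner_def, CharBasic.classInner_def]
  congr 1
  refine sum_congr rfl fun n _ => ?_
  have h1 : (l n : ℂ) * conj (l n : ℂ) = 1 := by
    rw [Complex.mul_conj', norm_hom]; simp
  calc (l n : ℂ) * (θ : N → ℂ) n * conj ((l n : ℂ) * (θ : N → ℂ) n)
      = ((l n : ℂ) * conj (l n : ℂ)) * ((θ : N → ℂ) n * conj ((θ : N → ℂ) n)) := by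
        rw [map_mul]; ring
    _ = _ := by rw [h1, one_mul]

/-- The product of a character with a linear character. -/
noncomputable def twist (θ : IrrCharacter N) (l : N →* ℂˣ) : IrrCharacter N :=
  ⟨_, isIrr_mul_lin N θ l⟩

theorem det_twist (θ : IrrCharacter N) (l : N →* ℂˣ) {k : ℕ} (hk : (θ : N → ℂ) 1 = k) :
    det N (twist N θ l) = l ^ k * det N θ := by
  refine linFun_injective N (funext fun n => ?_)
  rw [← det_spec N (twist N θ l)]
  show detChar (fun n => (l n : ℂ) * (θ : N → ℂ) n) n = _
  rw [detChar_mul_hom (CharBasic.IsIrr.isCharacter θ.2) l hk, det_spec]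
  simp [linFun]

theorem lin_eq_one_on_commutator {l : N →* ℂˣ} {L : G →* ℂˣ} (hNG : N ≤ commutator G)
    (h : ∀ n : N, (L n : ℂ) = l n) : l = 1 :=
  MonoidHom.ext fun n => Units.ext <| by
    rw [← h n, Abelianization.commutator_subset_ker L (hNG n.2)]; simp

/-- Clifford with natural numbers, and the norm relation between determinants. -/
theorem det_norm [Fintype G] [Fintype N] (hNG : N ≤ commutator G) (χ : IrrCharacter G)
    (θ : IrrCharacter N)
    (h : classInner (fun n : N => (χ : G → ℂ) n) (θ : N → ℂ) ≠ 0) {k : ℕ}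
    (hk : (θ : N → ℂ) 1 = k) :
    ∃ j : ℕ, charDegree (χ : G → ℂ) = j * k ∧ (inertia N (θ : N → ℂ)).index ∣ j ∧
      ∀ m : ℕ, (∀ x : G, x • det N θ ^ m = det N θ ^ m) → det N θ ^ (m * j) = 1 := by
  classical
  obtain ⟨e, he⟩ := CharBasic.classInner_isChar_nat
    (CharInduce.IsChar.res (CharBasic.IsIrr.isCharacter χ.2) N) (CharBasic.IsIrr.isCharacter θ.2)
  have hcl := clifford N χ.2 θ.2 h
  set S := univ.image (conjFun N (θ : N → ℂ)) with hS
  have hdeg := clifford_degree N χ.2 θ.2 h
  rw [he] at hcl hdeg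
  have hnat : (χ : G → ℂ) 1 = ((e * (inertia N (θ : N → ℂ)).index * k : ℕ) : ℂ) := by
    rw [hdeg, hk]; push_cast; ring
  have hchar : charDegree (χ : G → ℂ) = e * (inertia N (θ : N → ℂ)).index * k := by
    rw [charDegree, hnat, Complex.natCast_re, Nat.floor_natCast]
  have hScard : S.card = (inertia N (θ : N → ℂ)).index := by
    have h1 := congrFun hcl 1
    have h2 : ∀ ψ ∈ S, ψ 1 = (k : ℂ) := fun ψ hψ => by
      obtain ⟨x, -, rfl⟩ := mem_image.1 hψ
      rw [← hk]
      exact congrArg (θ : N → ℂ) (Subtype.ext (by simp))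
    simp only [Pi.smul_apply, Finset.sum_apply, smul_eq_mul, OneMemClass.coe_one] at h1
    rw [sum_congr rfl h2, sum_const, nsmul_eq_mul, hnat] at h1
    have h3 : e * (inertia N (θ : N → ℂ)).index * k = e * (S.card * k) := by exact_mod_cast h1
    rw [mul_assoc] at h3
    have he0 : 0 < e := Nat.pos_of_ne_zero fun z => h (by rw [he, z, Nat.cast_zero])
    have hk0 : 0 < k := Nat.pos_of_ne_zero fun z =>
      CharBasic.IsIrr.one_ne_zero θ.2 (by rw [hk, z, Nat.cast_zero])
    exact (Nat.eq_of_mul_eq_mul_right hk0 (Nat.eq_of_mul_eq_mul_left he0 h3)).symm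
  refine ⟨e * (inertia N (θ : N → ℂ)).index, hchar, dvd_mul_left _ _, fun m hm => ?_⟩
  obtain ⟨L, hL⟩ := exists_detChar_eq_hom (CharBasic.IsIrr.isCharacter χ.2)
  rw [Nat.cast_smul_eq_nsmul] at hcl
  have hchS : ∀ ψ ∈ S, IsCharacter N ψ := fun ψ hψ => by
    obtain ⟨x, -, rfl⟩ := mem_image.1 hψ
    exact isCharacter_conjFun N (CharBasic.IsIrr.isCharacter θ.2) x
  refine linFun_injective N (funext fun n => ?_)
  have h1 : (L n : ℂ) = 1 := by
    rw [Abelianization.commutator_subset_ker L (hNG n.2)]; simp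
  have h4 : detChar (χ : G → ℂ) (n : G) = detChar (fun k : N => (χ : G → ℂ) k) n :=
    detChar_res N (CharBasic.IsIrr.isCharacter χ.2) (fun _ => rfl) n
  rw [hL] at h4
  simp only [h1] at h4
  rw [hcl, detChar_nsmul (CharBasic.IsChar.sum S (fun ψ => ψ) hchS), Pi.pow_apply,
    detChar_sum S (fun ψ => ψ) hchS, Finset.prod_apply] at h4
  have h5 : ∀ ψ ∈ S, detChar ψ n ^ m = linFun N (det N θ ^ m) n := fun ψ hψ => by
    obtain ⟨x, -, rfl⟩ := mem_image.1 hψ
    have h6 := congrArg (fun l => linFun N l n) (hm x⁻¹)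
    simp only [linFun_smul, inv_inv] at h6
    rw [detChar_conjFun, ← h6]
    simp [linFun, conjFun]
  have h7 := congrArg (· ^ m) h4
  simp only [one_pow] at h7
  rw [← pow_mul, mul_comm e m, pow_mul, ← prod_pow, prod_congr rfl h5, prod_const, hScard] at h7
  simp only [linFun, MonoidHom.pow_apply, Units.val_pow_eq_pow_val, MonoidHom.one_apply,
    Units.val_one] at h7 ⊢
  rw [h7, ← pow_mul, ← pow_mul]
  congr 1
  ring

end Cfsg.Agent.H2.RelGraph
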