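import Cfsg.Agent.H2.RelGraph.Linear
import Cfsg.Prelude.Def_DegreeGraph
import Cfsg.Agent.S4813

/-!
# The common divisor graph of the relative degree set over a non-perfect normal subgroup
-/

namespace Cfsg.Agent.H2.RelGraph

open scoped ComplexConjugate
open Cfsg.Agent Cfsg.Agent.CharInduce Finset MulAction

universe u

-- use the group structure of linear characters throughout, for uniform rewriting
attribute [-instance] MonoidHom.instPow MonoidHom.mul MonoidHom.instDiv MonoidHom.instInv
  instOneMonoidHom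

variable {G : Type u} [Group G]

attribute [local instance] linAction

variable (N : Subgroup G) [N.Normal]

/-- The `s`-part of the group order. -/
noncomputable def sPow (G : Type u) (s : ℕ) : ℕ := s ^ (Nat.card G).factorization s

/-- The part of the group order prime to `s`. -/
noncomputable def coPow (G : Type u) (s : ℕ) : ℕ := Nat.card G / sPow G s

/-- Linear characters of `s`-power order. -/
def IsS (s : ℕ) (l : N →* ℂˣ) : Prop := l ^ sPow G s = 1

variable [Finite G]

theorem coprime_coPow {s : ℕ} (hs : s.Prime) : Nat.Coprime (coPow G s) (sPow G s) :=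
  (Nat.Coprime.pow_left _ (Nat.coprime_ordCompl hs Nat.card_pos.ne')).symm

theorem coprime_sPow {s n : ℕ} (hs : s.Prime) (h : ¬ s ∣ n) : Nat.Coprime n (sPow G s) :=
  ((hs.coprime_iff_not_dvd.2 h).pow_left _).symm

theorem isS_pow_coPow (s : ℕ) (l : N →* ℂˣ) : IsS N s (l ^ coPow G s) := by
  show (l ^ coPow G s) ^ sPow G s = 1
  rw [← pow_mul, coPow, sPow, Nat.div_mul_cancel (Nat.ordProj_dvd _ _)]
  obtain ⟨d, hd⟩ := N.card_subgroup_dvd_card
  rw [hd, pow_mul, hom_pow_card]
  exact one_pow (M := N →* ℂˣ) d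

theorem eq_one_of_coprime {n : ℕ} {s : ℕ} (h : Nat.Coprime n (sPow G s)) {l : N →* ℂˣ}
    (hl : IsS N s l) (hn : l ^ n = 1) : l = 1 := by
  have := pow_gcd_eq_one.2 ⟨hn, hl⟩
  rwa [h.gcd_eq_one, pow_one] at this

theorem IsS.smul {s : ℕ} {l : N →* ℂˣ} (h : IsS N s l) (g : G) : IsS N s (g • l) := by
  show (g • l) ^ sPow G s = 1
  rw [← smul_pow', h, smul_one]

theorem IsS.mul {s : ℕ} {l m : N →* ℂˣ} (h : IsS N s l) (h' : IsS N s m) : IsS N s (l * m) := by
  show (l * m) ^ sPow G s = 1
  rw [mul_pow, h, h']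
  exact one_mul (1 : N →* ℂˣ)

theorem IsS.inv {s : ℕ} {l : N →* ℂˣ} (h : IsS N s l) : IsS N s l⁻¹ := by
  show l⁻¹ ^ sPow G s = 1
  rw [inv_pow, h, inv_one]

theorem stabilizer_pow_le {s n : ℕ} (h : Nat.Coprime n (sPow G s)) {l : N →* ℂˣ} (hl : IsS N s l) :
    stabilizer G (l ^ n) ≤ stabilizer G l := fun g hg => by
  rw [mem_stabilizer_iff, smul_pow'] at hg
  have := eq_one_of_coprime N h ((IsS.smul N hl g).mul N (IsS.inv N hl))
    (by rw [mul_pow, inv_pow, hg, mul_inv_cancel])
  exact mem_stabilizer_iff.2 (mul_inv_eq_one.1 this)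

variable [Fintype G] [Fintype N]

/-- `θ` is a constituent of the restriction of `χ`. -/
def Over (χ : IrrCharacter G) (θ : IrrCharacter N) : Prop :=
  classInner (fun n : N => (χ : G → ℂ) n) (θ : N → ℂ) ≠ 0

/-- A linear character as an irreducible character. -/
noncomputable def linIrr (l : N →* ℂˣ) : IrrCharacter N := ⟨linFun N l, isIrrCharacter_hom l⟩

omit [Fintype G] in
theorem det_linIrr (l : N →* ℂˣ) : det N (linIrr N l) = l :=
  linFun_injective N ((det_spec N (linIrr N l)).symm.trans (detChar_hom l))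

omit [Fintype G] in
theorem det_of_eq_one {θ : IrrCharacter N} (h : (θ : N → ℂ) = fun _ => 1) : det N θ = 1 := by
  have : θ = linIrr N 1 := Subtype.ext (by rw [h]; funext n; simp [linIrr, linFun])
  rw [this, det_linIrr]

theorem mem_rel {χ : IrrCharacter G} {θ : IrrCharacter N} (h : Over N χ θ)
    (hθ : (θ : N → ℂ) ≠ fun _ => 1) : charDegree (χ : G → ℂ) ∈ relCharDegrees N := by
  refine ⟨χ, ?_, rfl⟩
  by_contra hc
  push Not at hc
  have h1 := (constituent_one_iff N χ.2).2 hc
  obtain ⟨x, hx⟩ := exists_conjFun_eq_of_constituent N χ.2 CharBasic.isIrrCharacter_one θ.2 h1 h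
  exact hθ (hx.trans (conjFun_one_char N x))

theorem exists_of_mem {a : ℕ} (ha : a ∈ relCharDegrees N) :
    ∃ (χ : IrrCharacter G) (θ : IrrCharacter N), Over N χ θ ∧ (θ : N → ℂ) ≠ (fun _ => 1) ∧
      charDegree (χ : G → ℂ) = a := by
  obtain ⟨χ, ⟨x, hxN, hx⟩, hd⟩ := ha
  have hres : IsCharacter N (fun n : N => (χ : G → ℂ) n) :=
    CharInduce.IsChar.res (CharBasic.IsIrr.isCharacter χ.2) N
  obtain ⟨θ, hθ⟩ := exists_constituent hres fun e => by
    have := congrFun e 1
    exact CharBasic.IsIrr.one_ne_zero χ.2 (by simpa using this)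
  refine ⟨χ, θ, hθ, fun e => hx ((constituent_one_iff N χ.2).1 ?_ x hxN), hd⟩
  rw [← e]; exact hθ

/-- Degrees of characters over a linear character. -/
def DegOver (l : N →* ℂˣ) (c : ℕ) : Prop :=
  ∃ χ : IrrCharacter G, Over N χ (linIrr N l) ∧ charDegree (χ : G → ℂ) = c

theorem exists_degOver (l : N →* ℂˣ) : ∃ c, DegOver N l c := by
  obtain ⟨χ, hχ⟩ := S4813.exists_over N (linIrr N l)
  exact ⟨_, χ, hχ, rfl⟩

theorem degOver_mem {l : N →* ℂˣ} (hl : l ≠ 1) {c : ℕ} (h : DegOver N l c) :
    c ∈ relCharDegrees N := by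
  obtain ⟨χ, hχ, rfl⟩ := h
  refine mem_rel N hχ fun e => hl ?_
  have := det_of_eq_one N e
  rwa [det_linIrr] at this

theorem index_dvd_of_degOver (hNG : N ≤ commutator G) {l : N →* ℂˣ} {c : ℕ}
    (h : DegOver N l c) : (stabilizer G l).index ∣ c := by
  obtain ⟨χ, hχ, rfl⟩ := h
  obtain ⟨k, -, hk⟩ := CharBasic.IsIrr.exists_degree (linIrr N l).2
  obtain ⟨j, hj, hij, -⟩ := det_norm N hNG χ _ hχ hk
  have h1 : (stabilizer G l).index ∣ (inertia N (linIrr N l : N → ℂ)).index := by
    refine Subgroup.index_dvd_of_le ?_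
    have := inertia_le_stabilizer_det N (linIrr N l)
    rwa [det_linIrr] at this
  exact hj ▸ (h1.trans hij).mul_right k

/-- Two relative degrees lie in one component. -/
def Conn (a b : ℕ) : Prop :=
  ∃ (ha : a ∈ relCharDegrees N) (hb : b ∈ relCharDegrees N),
    (commonDivisorGraph.induce (relCharDegrees N)).Reachable ⟨a, ha⟩ ⟨b, hb⟩

omit [N.Normal] [Finite G] [Fintype G] [Fintype N] in
theorem Conn.symm {a b : ℕ} (h : Conn N a b) : Conn N b a :=
  let ⟨ha, hb, hr⟩ := h; ⟨hb, ha, hr.symm⟩

omit [N.Normal] [Finite G] [Fintype G] [Fintype N] in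
theorem Conn.trans {a b c : ℕ} (h : Conn N a b) (h' : Conn N b c) : Conn N a c :=
  let ⟨ha, _, hr⟩ := h; let ⟨_, hc, hr'⟩ := h'; ⟨ha, hc, hr.trans hr'⟩

omit [N.Normal] [Fintype G] [Fintype N] [Finite G] in
theorem conn_of_dvd {a b n : ℕ} (ha : a ∈ relCharDegrees N) (hb : b ∈ relCharDegrees N)
    (ha0 : a ≠ 0) (hn : n ≠ 1) (hna : n ∣ a) (hnb : n ∣ b) : Conn N a b := by
  refine ⟨ha, hb, ?_⟩
  by_cases hab : a = b
  · subst hab; exact SimpleGraph.Reachable.refl _
  · refine SimpleGraph.Adj.reachable ?_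
    show commonDivisorGraph.Adj a b
    refine ⟨hab, ?_⟩
    have h0 : 0 < Nat.gcd a b := Nat.gcd_pos_of_pos_left _ (Nat.pos_of_ne_zero ha0)
    refine lt_of_le_of_ne h0 fun e => hn (Nat.dvd_one.1 ?_)
    have := Nat.dvd_gcd hna hnb
    rwa [← e] at this

theorem mem_ne_zero {a : ℕ} (ha : a ∈ relCharDegrees N) : a ≠ 0 := by
  obtain ⟨χ, -, rfl⟩ := ha
  obtain ⟨n, hn, h1⟩ := CharBasic.IsIrr.exists_degree χ.2
  rw [charDegree, h1, Complex.natCast_re, Nat.floor_natCast]
  exact hn.ne'

/-- A nontrivial `s`-part of the determinant is moved, and its orbit size divides the degree. -/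
theorem det_part (hNG : N ≤ commutator G) {s : ℕ} (hs : s.Prime) {χ : IrrCharacter G}
    {θ : IrrCharacter N} (hov : Over N χ θ) (ha : ¬ s ∣ charDegree (χ : G → ℂ))
    (hne : det N θ ^ coPow G s ≠ 1) :
    (stabilizer G (det N θ ^ coPow G s)).index ≠ 1 ∧
      (stabilizer G (det N θ ^ coPow G s)).index ∣ charDegree (χ : G → ℂ) := by
  obtain ⟨k, -, hk⟩ := CharBasic.IsIrr.exists_degree θ.2
  obtain ⟨j, hj, hij, hnorm⟩ := det_norm N hNG χ θ hov hk
  constructor
  · intro hu
    have htop := Subgroup.index_eq_one.1 hu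
    have h1 := hnorm (coPow G s) fun x => mem_stabilizer_iff.1 (htop ▸ Subgroup.mem_top x)
    rw [pow_mul] at h1
    exact hne (eq_one_of_coprime N
      (coprime_sPow hs fun h => ha (hj ▸ h.mul_right k)) (isS_pow_coPow N s _) h1)
  · refine hj ▸ (Dvd.dvd.mul_right ?_ k)
    refine (Subgroup.index_dvd_of_le fun g hg => ?_).trans hij
    rw [mem_stabilizer_iff, smul_pow', smul_det_of_mem N hg]

theorem twist_step (hNG : N ≤ commutator G) {s : ℕ} (hs : s.Prime) {χ : IrrCharacter G}
    {θ : IrrCharacter N} (hov : Over N χ θ) (hθ : (θ : N → ℂ) ≠ fun _ => 1)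
    (ha : ¬ s ∣ charDegree (χ : G → ℂ)) (hD : det N θ ^ coPow G s = 1) {l : N →* ℂˣ}
    (hl : IsS N s l) (hl1 : l ≠ 1) :
    ∃ c, Conn N (charDegree (χ : G → ℂ)) c ∧ (stabilizer G l).index ∣ c ∧
      ((stabilizer G l).index = 1 → s ∣ c) := by
  obtain ⟨k, -, hk⟩ := CharBasic.IsIrr.exists_degree θ.2
  obtain ⟨j, hj, hij, hnorm⟩ := det_norm N hNG χ θ hov hk
  obtain ⟨χ', hov'⟩ := S4813.exists_over N (twist N θ l)
  change Over N χ' (twist N θ l) at hov'
  have hk' : ((twist N θ l : IrrCharacter N) : N → ℂ) 1 = k := by simp [twist, hk]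
  obtain ⟨j', hj', hij', hnorm'⟩ := det_norm N hNG χ' _ hov' hk'
  have hks : ¬ s ∣ k := fun h => ha (hj ▸ h.mul_left j)
  have hcop : Nat.Coprime (k * coPow G s) (sPow G s) :=
    (coprime_sPow hs hks).mul_left (coprime_coPow hs)
  have hD' : det N (twist N θ l) ^ coPow G s = l ^ (k * coPow G s) := by
    rw [det_twist N θ l hk, mul_pow, hD, pow_mul]
    exact mul_one (M := N →* ℂˣ) _
  have hne' : det N (twist N θ l) ^ coPow G s ≠ 1 := fun e =>
    hl1 (eq_one_of_coprime N hcop hl (hD' ▸ e))
  have hθ' : ((twist N θ l : IrrCharacter N) : N → ℂ) ≠ fun _ => 1 := fun e =>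
    hne' (by rw [det_of_eq_one N e, one_pow])
  have hTl : inertia N ((twist N θ l : IrrCharacter N) : N → ℂ) ≤ stabilizer G l := fun g hg => by
    refine stabilizer_pow_le N hcop hl ?_
    rw [← hD', mem_stabilizer_iff, smul_pow', smul_det_of_mem N hg]
  have hTθ : inertia N ((twist N θ l : IrrCharacter N) : N → ℂ) ≤ inertia N (θ : N → ℂ) :=
    fun g hg => by
      have h1 : g⁻¹ • l = l := mem_stabilizer_iff.1 ((stabilizer G l).inv_mem (hTl hg))
      have h2 := congrArg (linFun N) h1
      rw [linFun_smul, inv_inv] at h2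
      refine (mem_inertia N).2 (funext fun n => ?_)
      have h3 := congrFun ((mem_inertia N).1 hg) n
      have h4 := congrFun h2 n
      simp only [conjFun, linFun, twist] at h3 h4 ⊢
      rw [h4] at h3
      exact mul_left_cancel₀ (Units.ne_zero (l n)) h3
  have hmem := mem_rel N hov hθ
  have hmem' := mem_rel N hov' hθ'
  refine ⟨charDegree (χ' : G → ℂ), ?_,
    hj' ▸ ((Subgroup.index_dvd_of_le hTl).trans hij').mul_right k, fun hu => ?_⟩
  · by_cases hk1 : k = 1
    · by_cases ht : (inertia N (θ : N → ℂ)).index = 1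
      · -- `θ` is an invariant linear character
        have hinv : ∀ x : G, x • det N θ = det N θ := fun x =>
          smul_det_of_mem N (Subgroup.index_eq_one.1 ht ▸ Subgroup.mem_top x)
        have h1 : det N θ ^ j = 1 := by simpa using hnorm 1 fun x => by rw [pow_one, hinv]
        have h2 : (det N θ ^ sPow G s) ^ j' = 1 := by
          have e : det N (twist N θ l) ^ sPow G s = det N θ ^ sPow G s := by
            rw [det_twist N θ l hk, hk1, pow_one, mul_pow, hl]
            exact one_mul (M := N →* ℂˣ) _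
          have := hnorm' (sPow G s) fun x => by rw [e, smul_pow', hinv]
          rwa [pow_mul, e] at this
        have hdet : det N θ ≠ 1 := fun e => hθ (by
          obtain ⟨φ, hφ⟩ := CharInduce.IsChar.exists_hom_of_degree_one
            (CharBasic.IsIrr.isCharacter θ.2) (by rw [hk, hk1, Nat.cast_one])
          have he : θ = linIrr N φ := Subtype.ext (funext hφ)
          rw [he, det_linIrr] at e
          funext n
          rw [hφ n, e]; simp)
        refine conn_of_dvd N hmem hmem' (mem_ne_zero N hmem)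
          (fun e => hdet (orderOf_eq_one_iff.1 e)) ?_ ?_
        · exact hj ▸ (orderOf_dvd_of_pow_eq_one h1).mul_right k
        · refine hj' ▸ Dvd.dvd.mul_right ?_ k
          have hco : Nat.Coprime (orderOf (det N θ)) (sPow G s) :=
            (coprime_coPow hs).coprime_dvd_left (orderOf_dvd_of_pow_eq_one hD)
          exact hco.dvd_of_dvd_mul_left (orderOf_dvd_of_pow_eq_one (by rw [pow_mul]; exact h2))
      · exact conn_of_dvd N hmem hmem' (mem_ne_zero N hmem) ht (hj ▸ hij.mul_right k)
          (hj' ▸ (((Subgroup.index_dvd_of_le hTθ)).trans hij').mul_right k)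
    · exact conn_of_dvd N hmem hmem' (mem_ne_zero N hmem) hk1 (hj ▸ dvd_mul_left k j)
        (hj' ▸ dvd_mul_left k j')
  · by_contra hc
    refine (det_part N hNG hs hov' hc hne').1 ?_
    rw [hD', Subgroup.index_eq_one, eq_top_iff]
    intro g _
    rw [mem_stabilizer_iff, smul_pow',
      mem_stabilizer_iff.1 (Subgroup.index_eq_one.1 hu ▸ Subgroup.mem_top g)]

/-- No nontrivial `s`-element is invariant. -/
def NoInv (s : ℕ) : Prop := ∀ l : N →* ℂˣ, IsS N s l → l ≠ 1 → (stabilizer G l).index ≠ 1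

/-- An `s`-element whose orbit has size prime to `s`. -/
def Good (s : ℕ) (l : N →* ℂˣ) : Prop := IsS N s l ∧ l ≠ 1 ∧ ¬ s ∣ (stabilizer G l).index

theorem good_conn (hNG : N ≤ commutator G) {s : ℕ} [Fact s.Prime] (hNI : NoInv N s)
    {l m : N →* ℂˣ} (hl : Good N s l) (hm : Good N s m) {c c' : ℕ} (hc : DegOver N l c)
    (hc' : DegOver N m c') : Conn N c c' := by
  have hcD := degOver_mem N hl.2.1 hc
  have hcD' := degOver_mem N hm.2.1 hc'
  set u := (stabilizer G l).index with hu
  set u' := (stabilizer G m).index with hu'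
  by_contra hnot
  have hg : Nat.Coprime u u' := Nat.coprime_of_dvd fun r hr h1 h2 => hnot
    (conn_of_dvd N hcD hcD' (mem_ne_zero N hcD) hr.ne_one
      (h1.trans (index_dvd_of_degOver N hNG hc)) (h2.trans (index_dvd_of_degOver N hNG hc')))
  have hu1 : u ≠ 1 := hNI l hl.1 hl.2.1
  have hlm : l * m ≠ 1 := fun e => hu1 (by
    have he : stabilizer G l ≤ stabilizer G m := fun g hg => by
      rw [mem_stabilizer_iff] at hg ⊢
      rw [show m = l⁻¹ from eq_inv_of_mul_eq_one_right e, smul_inv', hg]
    have he' : stabilizer G m ≤ stabilizer G l := fun g hg => by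
      rw [mem_stabilizer_iff] at hg ⊢
      rw [show l = m⁻¹ from eq_inv_of_mul_eq_one_left e, smul_inv', hg]
    have h : u = u' := by rw [hu, hu', le_antisymm he he']
    rw [← h] at hg
    exact (Nat.coprime_self u).1 hg)
  set T := stabilizer G l
  set T' := stabilizer G m
  set W := stabilizer G (l * m)
  have hinf : (T ⊓ T').index = u * u' :=
    le_antisymm Subgroup.index_inf_le (Nat.le_of_dvd
      (Nat.pos_of_ne_zero Subgroup.index_ne_zero_of_finite)
      (hg.mul_dvd_of_dvd_of_dvd (Subgroup.index_dvd_of_le inf_le_left)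
        (Subgroup.index_dvd_of_le inf_le_right)))
  have hW : T ⊓ T' ≤ W := fun g hg => by
    simp only [W, mem_stabilizer_iff, smul_mul', mem_stabilizer_iff.1 hg.1,
      mem_stabilizer_iff.1 hg.2]
  have hWdvd : W.index ∣ u * u' := hinf ▸ Subgroup.index_dvd_of_le hW
  obtain ⟨c'', hc''⟩ := exists_degOver N (l * m)
  have hcD'' := degOver_mem N hlm hc''
  have hWc := index_dvd_of_degOver N hNG hc''
  -- the index of the stabilizer of the product is prime to one of the two indices
  have hkey : Nat.Coprime W.index u ∨ Nat.Coprime W.index u' := by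
    by_contra hc2
    push Not at hc2
    obtain ⟨r, hr, hr1, hr2⟩ := Nat.Prime.not_coprime_iff_dvd.1 hc2.1
    obtain ⟨q, hq, hq1, hq2⟩ := Nat.Prime.not_coprime_iff_dvd.1 hc2.2
    exact hnot ((conn_of_dvd N hcD hcD'' (mem_ne_zero N hcD) hr.ne_one
      (hr2.trans (index_dvd_of_degOver N hNG hc)) (hr1.trans hWc)).trans N
      (conn_of_dvd N hcD'' hcD' (mem_ne_zero N hcD'') hq.ne_one (hq1.trans hWc)
        (hq2.trans (index_dvd_of_degOver N hNG hc'))))
  clear hnot hc hc' hc'' hWc hcD hcD' hcD'' c c' c''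
  -- contradiction by translating an orbit
  have main : ∀ a b : N →* ℂˣ, IsS N s a → a ≠ 1 → IsS N s b →
      ¬ s ∣ (stabilizer G b).index → Nat.Coprime (stabilizer G a).index (stabilizer G b).index →
      Nat.Coprime (stabilizer G a).index (stabilizer G (a * b)).index → False := by
    intro a b ha ha1 hb hbs hab hac
    set A := stabilizer G a
    set B := stabilizer G b
    set C := stabilizer G (a * b)
    have hAB : A ⊓ B = A ⊓ C := by
      ext g
      simp only [Subgroup.mem_inf, A, B, C, mem_stabilizer_iff, smul_mul']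
      exact ⟨fun h => ⟨h.1, by rw [h.1, h.2]⟩, fun h => ⟨h.1, by simpa [h.1] using h.2⟩⟩
    have e1 : ∀ {X : Subgroup G}, Nat.Coprime A.index X.index →
        (A ⊓ X).index = A.index * X.index := fun {X} hX =>
      le_antisymm Subgroup.index_inf_le (Nat.le_of_dvd
        (Nat.pos_of_ne_zero Subgroup.index_ne_zero_of_finite)
        (hX.mul_dvd_of_dvd_of_dvd (Subgroup.index_dvd_of_le inf_le_left)
          (Subgroup.index_dvd_of_le inf_le_right)))
    have hBC : B.index = C.index := by
      have h1 := e1 hab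
      rw [hAB, e1 hac] at h1
      exact (Nat.eq_of_mul_eq_mul_left (Nat.pos_of_ne_zero Subgroup.index_ne_zero_of_finite) h1).symm
    -- `A` is transitive on the orbit of `b`
    have hsurj : ∀ g : G, ∃ t ∈ A, g • b = t • b := by
      have h1 : (orbit A b).ncard = (orbit G b).ncard := by
        rw [← index_stabilizer, ← index_stabilizer]
        have h2 : stabilizer A b = B.subgroupOf A := by
          ext t; simp [B, Subgroup.mem_subgroupOf, mem_stabilizer_iff]; rfl
        rw [h2]
        show B.relIndex A = B.index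
        have h3 := Subgroup.relIndex_mul_index (inf_le_left : A ⊓ B ≤ A)
        rw [Subgroup.inf_relIndex_left, e1 hab, mul_comm A.index] at h3
        exact Nat.eq_of_mul_eq_mul_right (Nat.pos_of_ne_zero Subgroup.index_ne_zero_of_finite) h3
      have hsub : orbit A b ⊆ orbit G b := by
        rintro _ ⟨t, rfl⟩
        exact mem_orbit b (t : G)
      have hfin : (orbit G b).Finite := Set.finite_range _
      have h4 := Set.eq_of_subset_of_ncard_le hsub h1.ge hfin
      intro g
      obtain ⟨t, ht⟩ := (h4.symm ▸ mem_orbit b g : g • b ∈ orbit A b)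
      exact ⟨t, t.2, ht.symm⟩
    have hmap : (a * ·) '' orbit G b = orbit G (a * b) := by
      refine Set.eq_of_subset_of_ncard_le ?_ ?_ (Set.finite_range _)
      · rintro _ ⟨_, ⟨g, rfl⟩, rfl⟩
        obtain ⟨t, ht, he⟩ := hsurj g
        refine ⟨t, ?_⟩
        show t • (a * b) = a * (g • b)
        rw [smul_mul', mem_stabilizer_iff.1 ht, he]
      · rw [Set.ncard_image_of_injective _ (mul_right_injective a), ← index_stabilizer,
          ← index_stabilizer]
        exact hBC.ge
    apply hNI a ha ha1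
    rw [Subgroup.index_eq_one, eq_top_iff]
    intro h _
    rw [mem_stabilizer_iff]
    set O := (Set.finite_range fun g : G => g • b).toFinset
    have hmemO : ∀ y, y ∈ O ↔ y ∈ orbit G b := fun y => by simp [O, orbit]
    set d := a⁻¹ * (h • a)
    have hd : ∀ y ∈ O, d * y ∈ O := fun y hy => by
      rw [hmemO] at hy ⊢
      have h1 : h⁻¹ • y ∈ orbit G b := (orbit_eq_iff.2 hy) ▸ mem_orbit y h⁻¹
      have h2 : a * (h⁻¹ • y) ∈ orbit G (a * b) := hmap ▸ Set.mem_image_of_mem _ h1
      have h3 : (h • a) * y ∈ orbit G (a * b) := by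
        have := (orbit_eq_iff.2 h2) ▸ mem_orbit (a * (h⁻¹ • y)) h
        rwa [smul_mul', smul_inv_smul] at this
      rw [← hmap] at h3
      obtain ⟨z, hz, hz2⟩ := h3
      have : d * y = z := by
        simp only [d] at *
        rw [mul_assoc, ← hz2, inv_mul_cancel_left]
      exact this ▸ hz
    have hprod : d ^ O.card * ∏ y ∈ O, y = ∏ y ∈ O, y := by
      rw [← prod_const, ← prod_mul_distrib]
      refine prod_nbij (d * ·) hd (mul_right_injective d).injOn ?_ (fun _ _ => rfl)
      have himg : O.image (d * ·) = O := eq_of_subset_of_card_le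
        (image_subset_iff.2 hd) (card_image_of_injective O (mul_right_injective d)).ge
      intro y hy
      rw [mem_coe, ← himg, mem_image] at hy
      obtain ⟨z, hz, rfl⟩ := hy
      exact ⟨z, hz, rfl⟩
    have hcard : O.card = B.index := by
      rw [index_stabilizer, Set.ncard_eq_toFinset_card (orbit G b) (Set.finite_range _)]
      exact congrArg Finset.card (Finset.ext fun y => by simp [O, orbit])
    have := eq_one_of_coprime N (coprime_sPow (hs := ?_) (hcard.symm ▸ hbs))
      ((IsS.inv N ha).mul N (IsS.smul N ha h)) (mul_eq_right.1 hprod)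
    · exact (inv_mul_eq_one.1 this).symm
    · exact Fact.out
  rcases hkey with hk | hk
  · exact main l m hl.1 hl.2.1 hm.1 hm.2.2 hg hk.symm
  · refine main m l hm.1 hm.2.1 hl.1 hl.2.2 hg.symm ?_
    rw [show m * l = l * m from mul_comm m l]; exact hk.symm

end Cfsg.Agent.H2.RelGraph
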